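import Cfsg.Agent.Lib.Grp.O73.Defs

set_option autoImplicit false
set_option maxRecDepth 100000
set_option Elab.async false
set_option linter.unusedSectionVars false

namespace Cfsg.Agent.CG.O73

theorem c0 : allRange (chkBase 378 16 (appT tabs t65 0xffff) 0 (inv 0)) 0 378 = true := by decide +kernel
theorem c1 : allRange (chkBase 378 16 (appT tabs t65 0xffff) 1 (inv 1)) 0 378 = true := by decide +kernel
theorem c2 : allRange (chkBase 378 16 (appT tabs t65 0xffff) 2 (inv 2)) 0 378 = true := by decide +kernel
theorem c3 : allRange (chkBase 378 16 (appT tabs t65 0xffff) 3 (inv 3)) 0 378 = true := by decide +kernel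
theorem c4 : chkDef 16 (appT tabs t65 0xffff) 4 (slp 4) 0 378 = true := by decide +kernel
theorem c5 : chkDef 16 (appT tabs t65 0xffff) 5 (slp 5) 0 378 = true := by decide +kernel
theorem c6 : chkDef 16 (appT tabs t65 0xffff) 6 (slp 6) 0 378 = true := by decide +kernel
theorem c7 : chkDef 16 (appT tabs t65 0xffff) 7 (slp 7) 0 378 = true := by decide +kernel
theorem c8 : chkDef 16 (appT tabs t65 0xffff) 8 (slp 8) 0 378 = true := by decide +kernel
theorem c9 : chkDef 16 (appT tabs t65 0xffff) 9 (slp 9) 0 378 = true := by decide +kernel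
theorem c10 : chkDef 16 (appT tabs t65 0xffff) 10 (slp 10) 0 378 = true := by decide +kernel
theorem c11 : chkDef 16 (appT tabs t65 0xffff) 11 (slp 11) 0 378 = true := by decide +kernel
theorem c12 : chkDef 16 (appT tabs t65 0xffff) 12 (slp 12) 0 378 = true := by decide +kernel
theorem c13 : chkDef 16 (appT tabs t65 0xffff) 13 (slp 13) 0 378 = true := by decide +kernel
theorem c14 : chkDef 16 (appT tabs t65 0xffff) 14 (slp 14) 0 378 = true := by decide +kernel
theorem c15 : chkDef 16 (appT tabs t65 0xffff) 15 (slp 15) 0 378 = true := by decide +kernel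
theorem c16 : chkDef 16 (appT tabs t65 0xffff) 16 (slp 16) 0 378 = true := by decide +kernel
theorem c17 : chkDef 16 (appT tabs t65 0xffff) 17 (slp 17) 0 378 = true := by decide +kernel
theorem c18 : chkDef 16 (appT tabs t65 0xffff) 18 (slp 18) 0 378 = true := by decide +kernel
theorem c19 : chkDef 16 (appT tabs t65 0xffff) 19 (slp 19) 0 378 = true := by decide +kernel
theorem c20 : chkDef 16 (appT tabs t65 0xffff) 20 (slp 20) 0 378 = true := by decide +kernel
theorem c21 : chkDef 16 (appT tabs t65 0xffff) 21 (slp 21) 0 378 = true := by decide +kernel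
theorem c22 : chkDef 16 (appT tabs t65 0xffff) 22 (slp 22) 0 378 = true := by decide +kernel
theorem c23 : chkDef 16 (appT tabs t65 0xffff) 23 (slp 23) 0 378 = true := by decide +kernel
theorem c24 : chkDef 16 (appT tabs t65 0xffff) 24 (slp 24) 0 378 = true := by decide +kernel
theorem c25 : chkDef 16 (appT tabs t65 0xffff) 25 (slp 25) 0 378 = true := by decide +kernel
theorem c26 : chkDef 16 (appT tabs t65 0xffff) 26 (slp 26) 0 378 = true := by decide +kernel
theorem c27 : chkDef 16 (appT tabs t65 0xffff) 27 (slp 27) 0 378 = true := by decide +kernel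
theorem c28 : chkDef 16 (appT tabs t65 0xffff) 28 (slp 28) 0 378 = true := by decide +kernel
theorem c29 : chkDef 16 (appT tabs t65 0xffff) 29 (slp 29) 0 378 = true := by decide +kernel
theorem c30 : chkDef 16 (appT tabs t65 0xffff) 30 (slp 30) 0 378 = true := by decide +kernel
theorem c31 : chkDef 16 (appT tabs t65 0xffff) 31 (slp 31) 0 378 = true := by decide +kernel
theorem c32 : chkDef 16 (appT tabs t65 0xffff) 32 (slp 32) 0 378 = true := by decide +kernel
theorem c33 : chkDef 16 (appT tabs t65 0xffff) 33 (slp 33) 0 378 = true := by decide +kernel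
theorem c34 : chkDef 16 (appT tabs t65 0xffff) 34 (slp 34) 0 378 = true := by decide +kernel
theorem c35 : chkDef 16 (appT tabs t65 0xffff) 35 (slp 35) 0 378 = true := by decide +kernel
theorem c36 : chkDef 16 (appT tabs t65 0xffff) 36 (slp 36) 0 378 = true := by decide +kernel
theorem c37 : chkDef 16 (appT tabs t65 0xffff) 37 (slp 37) 0 378 = true := by decide +kernel
theorem c38 : chkDef 16 (appT tabs t65 0xffff) 38 (slp 38) 0 378 = true := by decide +kernel
theorem c39 : chkDef 16 (appT tabs t65 0xffff) 39 (slp 39) 0 378 = true := by decide +kernel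
theorem c40 : chkDef 16 (appT tabs t65 0xffff) 40 (slp 40) 0 378 = true := by decide +kernel
theorem c41 : chkDef 16 (appT tabs t65 0xffff) 41 (slp 41) 0 378 = true := by decide +kernel
theorem c42 : chkDef 16 (appT tabs t65 0xffff) 42 (slp 42) 0 378 = true := by decide +kernel
theorem c43 : chkDef 16 (appT tabs t65 0xffff) 43 (slp 43) 0 378 = true := by decide +kernel
theorem c44 : chkDef 16 (appT tabs t65 0xffff) 44 (slp 44) 0 378 = true := by decide +kernel
theorem c45 : chkDef 16 (appT tabs t65 0xffff) 45 (slp 45) 0 378 = true := by decide +kernel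
theorem c46 : chkDef 16 (appT tabs t65 0xffff) 46 (slp 46) 0 378 = true := by decide +kernel
theorem c47 : chkDef 16 (appT tabs t65 0xffff) 47 (slp 47) 0 378 = true := by decide +kernel
theorem c48 : chkDef 16 (appT tabs t65 0xffff) 48 (slp 48) 0 378 = true := by decide +kernel
theorem c49 : chkDef 16 (appT tabs t65 0xffff) 49 (slp 49) 0 378 = true := by decide +kernel
theorem c50 : chkDef 16 (appT tabs t65 0xffff) 50 (slp 50) 0 378 = true := by decide +kernel
theorem c51 : chkDef 16 (appT tabs t65 0xffff) 51 (slp 51) 0 378 = true := by decide +kernel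
theorem c52 : chkDef 16 (appT tabs t65 0xffff) 52 (slp 52) 0 378 = true := by decide +kernel
theorem c53 : chkDef 16 (appT tabs t65 0xffff) 53 (slp 53) 0 378 = true := by decide +kernel
theorem c54 : chkDef 16 (appT tabs t65 0xffff) 54 (slp 54) 0 378 = true := by decide +kernel
theorem c55 : chkDef 16 (appT tabs t65 0xffff) 55 (slp 55) 0 378 = true := by decide +kernel
theorem c56 : chkDef 16 (appT tabs t65 0xffff) 56 (slp 56) 0 378 = true := by decide +kernel
theorem c57 : chkDef 16 (appT tabs t65 0xffff) 57 (slp 57) 0 378 = true := by decide +kernel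
theorem c58 : chkDef 16 (appT tabs t65 0xffff) 58 (slp 58) 0 378 = true := by decide +kernel
theorem c59 : chkDef 16 (appT tabs t65 0xffff) 59 (slp 59) 0 378 = true := by decide +kernel
theorem c60 : chkDef 16 (appT tabs t65 0xffff) 60 (slp 60) 0 378 = true := by decide +kernel
theorem c61 : chkDef 16 (appT tabs t65 0xffff) 61 (slp 61) 0 378 = true := by decide +kernel
theorem c62 : chkDef 16 (appT tabs t65 0xffff) 62 (slp 62) 0 378 = true := by decide +kernel
theorem c63 : chkDef 16 (appT tabs t65 0xffff) 63 (slp 63) 0 378 = true := by decide +kernel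
theorem c64 : chkDef 16 (appT tabs t65 0xffff) 64 (slp 64) 0 378 = true := by decide +kernel
theorem c65 : chkDef 16 (appT tabs t65 0xffff) 65 (false, []) 0 378 = true := by decide +kernel
theorem c66 : mc0.chk (appT tabs t65 0xffff) 1 377 = true := by decide +kernel
theorem c67 : mc1.chk (appT tabs t65 0xffff) 1 116 = true := by decide +kernel
theorem c68 : mc2.chk (appT tabs t65 0xffff) 1 35 = true := by decide +kernel
theorem c69 : mc3.chk (appT tabs t65 0xffff) 1 14 = true := by decide +kernel
theorem c70 : mc4.chk (appT tabs t65 0xffff) 1 5 = true := by decide +kernel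
theorem c71 : mc5.chk (appT tabs t65 0xffff) 1 3 = true := by decide +kernel
theorem c72 : mc6.chk (appT tabs t65 0xffff) 1 1 = true := by decide +kernel
theorem c73 : mc7.chk (appT tabs t65 0xffff) 1 1 = true := by decide +kernel
theorem c74 : mc8.chk (appT tabs t65 0xffff) 1 1 = true := by decide +kernel
theorem c75 : okcb 378 16 (bases mc) = true := by decide +kernel
theorem c76 : headAll (appT tabs t65 0xffff) mc [] = true := by decide +kernel
theorem c77 : tc0.head tcR = true := by decide +kernel
theorem c78 : allL (fun a => tc0.chk a 0 tc0.N) tc0.S = true := by decide +kernel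
theorem c79 : tc1.head tcR = true := by decide +kernel
theorem c80 : allL (fun a => tc1.chk a 0 tc1.N) tc1.S = true := by decide +kernel
theorem c81 : tc2.head tcR = true := by decide +kernel
theorem c82 : allL (fun a => tc2.chk a 0 tc2.N) tc2.S = true := by decide +kernel
theorem c83 : tc3.head tcR = true := by decide +kernel
theorem c84 : allL (fun a => tc3.chk a 0 tc3.N) tc3.S = true := by decide +kernel
theorem c85 : tc4.head tcR = true := by decide +kernel
theorem c86 : allL (fun a => tc4.chk a 0 tc4.N) tc4.S = true := by decide +kernel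
theorem c87 : tc5.head tcR = true := by decide +kernel
theorem c88 : allL (fun a => tc5.chk a 0 tc5.N) tc5.S = true := by decide +kernel
theorem c89 : tc6.head tcR = true := by decide +kernel
theorem c90 : allL (fun a => tc6.chk a 0 tc6.N) tc6.S = true := by decide +kernel
theorem c91 : tc7.head tcR = true := by decide +kernel
theorem c92 : allL (fun a => tc7.chk a 0 tc7.N) tc7.S = true := by decide +kernel
theorem c93 : tc8.head tcR = true := by decide +kernel
theorem c94 : allL (fun a => tc8.chk a 0 tc8.N) tc8.S = true := by decide +kernel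
theorem c95 : tcLink tc [] [55,56,57,58,59,60,61,62,63,64] = true := by decide +kernel
theorem c96 : oneAll 16 (appT tabs t65 0xffff) [55,55] 0 378 = true := by decide +kernel
theorem c97 : oneAll 16 (appT tabs t65 0xffff) [56,56] 0 378 = true := by decide +kernel
theorem c98 : oneAll 16 (appT tabs t65 0xffff) [56,55,56,55] 0 378 = true := by decide +kernel
theorem c99 : oneAll 16 (appT tabs t65 0xffff) [57,57] 0 378 = true := by decide +kernel
theorem c100 : oneAll 16 (appT tabs t65 0xffff) [57,55,57,55] 0 378 = true := by decide +kernel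
theorem c101 : oneAll 16 (appT tabs t65 0xffff) [57,56,57,56] 0 378 = true := by decide +kernel
theorem c102 : oneAll 16 (appT tabs t65 0xffff) [58,58] 0 378 = true := by decide +kernel
theorem c103 : oneAll 16 (appT tabs t65 0xffff) [59,59] 0 378 = true := by decide +kernel
theorem c104 : oneAll 16 (appT tabs t65 0xffff) [58,55,58,55] 0 378 = true := by decide +kernel
theorem c105 : oneAll 16 (appT tabs t65 0xffff) [59,55,59,55] 0 378 = true := by decide +kernel
theorem c106 : oneAll 16 (appT tabs t65 0xffff) [58,56,58,56] 0 378 = true := by decide +kernel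
theorem c107 : oneAll 16 (appT tabs t65 0xffff) [59,56,59,56] 0 378 = true := by decide +kernel
theorem c108 : oneAll 16 (appT tabs t65 0xffff) [58,57,58,57] 0 378 = true := by decide +kernel
theorem c109 : oneAll 16 (appT tabs t65 0xffff) [59,57,59,57] 0 378 = true := by decide +kernel
theorem c110 : oneAll 16 (appT tabs t65 0xffff) [58,59,58,59] 0 378 = true := by decide +kernel
theorem c111 : oneAll 16 (appT tabs t65 0xffff) [60,60] 0 378 = true := by decide +kernel
theorem c112 : oneAll 16 (appT tabs t65 0xffff) [60,56,60,56] 0 378 = true := by decide +kernel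
theorem c113 : oneAll 16 (appT tabs t65 0xffff) [60,57,59,60,57,59] 0 378 = true := by decide +kernel
theorem c114 : oneAll 16 (appT tabs t65 0xffff) [60,58,60,58,60,58] 0 378 = true := by decide +kernel
theorem c115 : oneAll 16 (appT tabs t65 0xffff) [60,58,55,57,60,55,57,58] 0 378 = true := by decide +kernel
theorem c116 : oneAll 16 (appT tabs t65 0xffff) [60,55,60,55,60,56,57,58] 0 378 = true := by decide +kernel
theorem c117 : oneAll 16 (appT tabs t65 0xffff) [61,61] 0 378 = true := by decide +kernel
theorem c118 : oneAll 16 (appT tabs t65 0xffff) [61,55,61,55] 0 378 = true := by decide +kernel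
theorem c119 : oneAll 16 (appT tabs t65 0xffff) [61,57,61,57] 0 378 = true := by decide +kernel
theorem c120 : oneAll 16 (appT tabs t65 0xffff) [61,58,61,58] 0 378 = true := by decide +kernel
theorem c121 : oneAll 16 (appT tabs t65 0xffff) [61,56,61,55,56] 0 378 = true := by decide +kernel
theorem c122 : oneAll 16 (appT tabs t65 0xffff) [61,59,61,55,59] 0 378 = true := by decide +kernel
theorem c123 : oneAll 16 (appT tabs t65 0xffff) [61,60,61,60,58,60,61,60,61,58,60,58] 0 378 = true := by decide +kernel
theorem c124 : oneAll 16 (appT tabs t65 0xffff) [61,60,57,60,61,60,57,60,61,57,60,57,60] 0 378 = true := by decide +kernel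
theorem c125 : oneAll 16 (appT tabs t65 0xffff) [62,62] 0 378 = true := by decide +kernel
theorem c126 : oneAll 16 (appT tabs t65 0xffff) [62,55,62,55] 0 378 = true := by decide +kernel
theorem c127 : oneAll 16 (appT tabs t65 0xffff) [62,56,62,56] 0 378 = true := by decide +kernel
theorem c128 : oneAll 16 (appT tabs t65 0xffff) [62,58,62,58] 0 378 = true := by decide +kernel
theorem c129 : oneAll 16 (appT tabs t65 0xffff) [62,59,62,59] 0 378 = true := by decide +kernel
theorem c130 : oneAll 16 (appT tabs t65 0xffff) [62,61,62,61] 0 378 = true := by decide +kernel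
theorem c131 : oneAll 16 (appT tabs t65 0xffff) [62,57,62,55,56,57,59] 0 378 = true := by decide +kernel
theorem c132 : oneAll 16 (appT tabs t65 0xffff) [62,60,58,62,60,62,60,62,58,60] 0 378 = true := by decide +kernel
theorem c133 : oneAll 16 (appT tabs t65 0xffff) [62,60,57,60,62,60,57,60,62,59,60,57,60] 0 378 = true := by decide +kernel
theorem c134 : oneAll 16 (appT tabs t65 0xffff) [62,60,61,60,61,60,62,55,56,59,60,61,60,61,60] 0 378 = true := by decide +kernel
theorem c135 : oneAll 16 (appT tabs t65 0xffff) [63,63] 0 378 = true := by decide +kernel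
theorem c136 : oneAll 16 (appT tabs t65 0xffff) [63,55,63,55] 0 378 = true := by decide +kernel
theorem c137 : oneAll 16 (appT tabs t65 0xffff) [63,56,63,56] 0 378 = true := by decide +kernel
theorem c138 : oneAll 16 (appT tabs t65 0xffff) [63,57,63,57] 0 378 = true := by decide +kernel
theorem c139 : oneAll 16 (appT tabs t65 0xffff) [63,58,63,58] 0 378 = true := by decide +kernel
theorem c140 : oneAll 16 (appT tabs t65 0xffff) [63,60,63,60] 0 378 = true := by decide +kernel
theorem c141 : oneAll 16 (appT tabs t65 0xffff) [63,61,63,61] 0 378 = true := by decide +kernel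
theorem c142 : oneAll 16 (appT tabs t65 0xffff) [63,59,63,55,57,58,59] 0 378 = true := by decide +kernel
theorem c143 : oneAll 16 (appT tabs t65 0xffff) [63,62,63,62,63,58,62] 0 378 = true := by decide +kernel
theorem c144 : oneAll 16 (appT tabs t65 0xffff) [56,60,58,61,60,61,60,58,56,60,61,55,60,58,55,61] 0 378 = true := by decide +kernel
theorem c145 : oneAll 16 (appT tabs t65 0xffff) [64,64] 0 378 = true := by decide +kernel
theorem c146 : oneAll 16 (appT tabs t65 0xffff) [64,55,64,55] 0 378 = true := by decide +kernel
theorem c147 : oneAll 16 (appT tabs t65 0xffff) [64,58,64,58] 0 378 = true := by decide +kernel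
theorem c148 : oneAll 16 (appT tabs t65 0xffff) [64,60,64,60] 0 378 = true := by decide +kernel
theorem c149 : oneAll 16 (appT tabs t65 0xffff) [64,61,64,61] 0 378 = true := by decide +kernel
theorem c150 : oneAll 16 (appT tabs t65 0xffff) [64,62,64,62] 0 378 = true := by decide +kernel
theorem c151 : oneAll 16 (appT tabs t65 0xffff) [64,56,64,55,58,59] 0 378 = true := by decide +kernel
theorem c152 : oneAll 16 (appT tabs t65 0xffff) [64,63,64,63,64,63] 0 378 = true := by decide +kernel
theorem c153 : oneAll 16 (appT tabs t65 0xffff) [64,63,62,60,55,62,60,63,62,60,61,59,64,63,62,60,62,63,64,61,60,62,63,60,62,57,60,62,63,64,55,58,60,62,60,58,61,63,62,60,61,62,60,63,62,60,59] 0 378 = true := by decide +kernel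
theorem c154 : eqAll 16 (appT tabs t65 0xffff) [0] (nth inW [] 0) 0 378 = true := by decide +kernel
theorem c155 : eqAll 16 (appT tabs t65 0xffff) [1] (nth inW [] 1) 0 378 = true := by decide +kernel
theorem c156 : eqAll 16 (appT tabs t65 0xffff) [2] (nth inW [] 2) 0 378 = true := by decide +kernel
theorem c157 : eqAll 16 (appT tabs t65 0xffff) [3] (nth inW [] 3) 0 378 = true := by decide +kernel

end Cfsg.Agent.CG.O73
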