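import Cfsg.Agent.Lib.Grp.O73.D0

set_option autoImplicit false
set_option maxRecDepth 100000
set_option Elab.async false
set_option linter.unusedSectionVars false

namespace Cfsg.Agent.CG.O73

noncomputable def tabs : List ℕ := [t0,t1,t2,t3,t4,t5,t6,t7,t8,t9,t10,t11,t12,t13,t14,t15,t16,t17,t18,t19,t20,t21,t22,t23,t24,t25,t26,t27,t28,t29,t30,t31,t32,t33,t34,t35,t36,t37,t38,t39,t40,t41,t42,t43,t44,t45,t46,t47,t48,t49,t50,t51,t52,t53,t54,t55,t56,t57,t58,t59,t60,t61,t62,t63,t64]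
noncomputable abbrev app : ℕ → ℕ → ℕ := appT tabs t65 0xffff
noncomputable def slpL : List (Bool × List ℕ) := [(false,[]),
  (false,[]),
  (false,[]),
  (false,[]),
  (false,[3,3]),
  (true,[4]),
  (false,[0,3]),
  (true,[6]),
  (false,[6,6,6,6]),
  (false,[4]),
  (true,[9]),
  (false,[4,4,7,4,6,0,8,1,7,5,6,5,5]),
  (false,[10,11,10,10,10]),
  (true,[12]),
  (false,[10,13,9]),
  (true,[14]),
  (false,[13,11,14]),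
  (true,[16]),
  (false,[13,13,15,17]),
  (true,[18]),
  (false,[13,16,12,17]),
  (true,[20]),
  (false,[16,9,17,11,15]),
  (true,[22]),
  (false,[19,23,19,20]),
  (true,[24]),
  (false,[22,20,19,21,21]),
  (true,[26]),
  (false,[24,27,27,24,26,25,25]),
  (true,[28]),
  (false,[25,26,25,26]),
  (true,[30]),
  (false,[25,26,26,24,26,24,24]),
  (true,[32]),
  (false,[24,27,24,26,25]),
  (true,[34]),
  (false,[34,28,33]),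
  (true,[36]),
  (false,[31,34,29]),
  (true,[38]),
  (false,[33,28,30]),
  (true,[40]),
  (false,[34,29,33]),
  (true,[42]),
  (false,[38,40]),
  (false,[37,41]),
  (false,[43,36,39]),
  (false,[36,43]),
  (false,[43,37,39]),
  (false,[47]),
  (false,[46,48]),
  (false,[45,48,44]),
  (false,[51]),
  (false,[49,50]),
  (false,[53]),
  (false,[54]),
  (false,[52]),
  (false,[49,52,54]),
  (false,[44,54]),
  (false,[45,54]),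
  (false,[36,44,52]),
  (false,[29,37,44,49,54]),
  (false,[26,26,25,25,33,37,44,54]),
  (false,[20,22,19,24,24,26,32,37,49]),
  (false,[15,9,22,19,27,25,25,33,36,52,54])]
noncomputable def slp (a : ℕ) : Bool × List ℕ := nth slpL (false, []) a
noncomputable def invL : List ℕ := [1,0,3,2,5,4,7,6,8,10,9,11,13,12,15,14,17,16,19,18,21,20,23,22,25,24,27,26,29,28,31,30,33,32,35,34,37,36,39,38,41,40,43,42,44,45,46,47,48,49,50,51,52,53,54,55,56,57,58,59,60,61,62,63,64]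
noncomputable def inv (a : ℕ) : ℕ := nth invL 65 a
noncomputable def bs : List ℕ := [32,320,1440,5456,144,5856,4416,128,2928]
noncomputable def mc0 : Lvl := ⟨32, [9,10,11,12,13,14,15,16,17], 378,
  fun i => look 0xffff mc0c (Nat.mul 16 i), fun i => look 0xfff mc0p (Nat.mul 12 i),
  fun i => look 0xff mc0l (Nat.mul 8 i), fun i => look 0xff mc0i (Nat.mul 8 i), fun x => look 0xffff mc0q x, 4⟩
noncomputable def mc1 : Lvl := ⟨320, [18,19,20,21,22,23], 117,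
  fun i => look 0xffff mc1c (Nat.mul 16 i), fun i => look 0xff mc1p (Nat.mul 8 i),
  fun i => look 0xff mc1l (Nat.mul 8 i), fun i => look 0xff mc1i (Nat.mul 8 i), fun x => look 0xffff mc1q x, 4⟩
noncomputable def mc2 : Lvl := ⟨1440, [24,25,26,27], 36,
  fun i => look 0xffff mc2c (Nat.mul 16 i), fun i => look 0xff mc2p (Nat.mul 8 i),
  fun i => look 0xff mc2l (Nat.mul 8 i), fun i => look 0xff mc2i (Nat.mul 8 i), fun x => look 0xffff mc2q x, 4⟩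
noncomputable def mc3 : Lvl := ⟨5456, [28,29,30,31,32,33,34,35], 15,
  fun i => look 0xffff mc3c (Nat.mul 16 i), fun i => look 0xf mc3p (Nat.mul 4 i),
  fun i => look 0xff mc3l (Nat.mul 8 i), fun i => look 0xff mc3i (Nat.mul 8 i), fun x => look 0xffff mc3q x, 2⟩
noncomputable def mc4 : Lvl := ⟨144, [36,37,38,39,42,43], 6,
  fun i => look 0xffff mc4c (Nat.mul 16 i), fun i => look 0xf mc4p (Nat.mul 4 i),
  fun i => look 0xff mc4l (Nat.mul 8 i), fun i => look 0xff mc4i (Nat.mul 8 i), fun x => look 0xffff mc4q x, 2⟩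
noncomputable def mc5 : Lvl := ⟨5856, [44,45,46], 4,
  fun i => look 0xffff mc5c (Nat.mul 16 i), fun i => look 0xf mc5p (Nat.mul 4 i),
  fun i => look 0xff mc5l (Nat.mul 8 i), fun i => look 0xff mc5i (Nat.mul 8 i), fun x => look 0xffff mc5q x, 1⟩
noncomputable def mc6 : Lvl := ⟨4416, [49], 2,
  fun i => look 0xffff mc6c (Nat.mul 16 i), fun i => look 0xf mc6p (Nat.mul 4 i),
  fun i => look 0xff mc6l (Nat.mul 8 i), fun i => look 0xff mc6i (Nat.mul 8 i), fun x => look 0xffff mc6q x, 1⟩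
noncomputable def mc7 : Lvl := ⟨128, [52], 2,
  fun i => look 0xffff mc7c (Nat.mul 16 i), fun i => look 0xf mc7p (Nat.mul 4 i),
  fun i => look 0xff mc7l (Nat.mul 8 i), fun i => look 0xff mc7i (Nat.mul 8 i), fun x => look 0xffff mc7q x, 1⟩
noncomputable def mc8 : Lvl := ⟨2928, [54], 2,
  fun i => look 0xffff mc8c (Nat.mul 16 i), fun i => look 0xf mc8p (Nat.mul 4 i),
  fun i => look 0xff mc8l (Nat.mul 8 i), fun i => look 0xff mc8i (Nat.mul 8 i), fun x => look 0xffff mc8q x, 1⟩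
noncomputable def mc : List Lvl := [mc0, mc1, mc2, mc3, mc4, mc5, mc6, mc7, mc8]
noncomputable def tcR : List (List ℕ) := [[55,55],
  [56,56],
  [56,55,56,55],
  [57,57],
  [57,55,57,55],
  [57,56,57,56],
  [58,58],
  [59,59],
  [58,55,58,55],
  [59,55,59,55],
  [58,56,58,56],
  [59,56,59,56],
  [58,57,58,57],
  [59,57,59,57],
  [58,59,58,59],
  [60,60],
  [60,56,60,56],
  [60,57,59,60,57,59],
  [60,58,60,58,60,58],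
  [60,58,55,57,60,55,57,58],
  [60,55,60,55,60,56,57,58],
  [61,61],
  [61,55,61,55],
  [61,57,61,57],
  [61,58,61,58],
  [61,56,61,55,56],
  [61,59,61,55,59],
  [61,60,61,60,58,60,61,60,61,58,60,58],
  [61,60,57,60,61,60,57,60,61,57,60,57,60],
  [62,62],
  [62,55,62,55],
  [62,56,62,56],
  [62,58,62,58],
  [62,59,62,59],
  [62,61,62,61],
  [62,57,62,55,56,57,59],
  [62,60,58,62,60,62,60,62,58,60],
  [62,60,57,60,62,60,57,60,62,59,60,57,60],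
  [62,60,61,60,61,60,62,55,56,59,60,61,60,61,60],
  [63,63],
  [63,55,63,55],
  [63,56,63,56],
  [63,57,63,57],
  [63,58,63,58],
  [63,60,63,60],
  [63,61,63,61],
  [63,59,63,55,57,58,59],
  [63,62,63,62,63,58,62],
  [56,60,58,61,60,61,60,58,56,60,61,55,60,58,55,61],
  [64,64],
  [64,55,64,55],
  [64,58,64,58],
  [64,60,64,60],
  [64,61,64,61],
  [64,62,64,62],
  [64,56,64,55,58,59],
  [64,63,64,63,64,63],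
  [64,63,62,60,55,62,60,63,62,60,61,59,64,63,62,60,62,63,64,61,60,62,63,60,62,57,60,62,63,64,55,58,60,62,60,58,61,63,62,60,61,62,60,63,62,60,59]]
noncomputable def tc0T : List ℕ := [0,0,0,0,0,0,0,0,0,0,0,0,0,0,0,0,0,0,0,0,0,0,0,0,0,0,0,0,0,0,0,0,0,0,0,0,0,0,0,0,0,0,0,0,0,0,0,0,0,0,0,0,0,0,0,tc0t55,tc0t56,tc0t57,tc0t58,tc0t59,tc0t60,tc0t61,tc0t62,tc0t63,tc0t64]
noncomputable def tc0r : Tr Rule := (.node (.node (.node (.node (.node (.node (.node (.node (.leaf ⟨64,[64],49,1⟩) (.leaf ⟨57,[55,57,55],4,0⟩)) (.node (.leaf ⟨62,[55,62,55],30,0⟩) (.leaf ⟨55,[61,55,61],22,1⟩))) (.node (.node (.leaf ⟨60,[62,60,58,62,60,62,60,62,58],36,9⟩) (.leaf ⟨56,[55,56,55],2,0⟩)) (.leaf ⟨58,[56,58,56],10,2⟩))) (.node (.node (.node (.leaf ⟨58,[63,58,63],43,3⟩) (.leaf ⟨61,[55,56,61,56],25,2⟩)) (.leaf ⟨60,[55,60,56,57,58,60,55],20,2⟩))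 (.node (.node (.leaf ⟨56,[64,55,58,59,64],55,1⟩) (.leaf ⟨60,[62,57,60,62,63,64,55,58,60,62,60,58,61,63,62,60,61,62,60,63,62,60,59,64,63,62,60,55,62,60,63,62,60,61,59,64,63,62,60,62,63,64,61,60,62,63],57,23⟩)) (.leaf ⟨60,[56,60,56],16,2⟩)))) (.node (.node (.node (.node (.leaf ⟨59,[59],7,1⟩) (.leaf ⟨62,[57,62,55,56,57,59],35,0⟩)) (.leaf ⟨59,[60,57,59,60,57],17,5⟩)) (.node (.node (.leaf ⟨63,[61,63,61],45,2⟩) (.leaf ⟨64,[62,64,62],54,2⟩)) (.leaf ⟨57,[58,57,58],12,1⟩))) (.node (.node (.node (.leaf ⟨55,[57,55,57],4,3⟩) (.leaf ⟨64,[60,64,60],52,2⟩)) (.leaf ⟨59,[61,55,59,61],26,1⟩)) (.node (.node (.leaf ⟨56,[61,55,56,61],25,1⟩) (.leaf ⟨55,[62,60,63,62,60,61,59,64,63,62,60,62,63,64,61,60,62,63,60,62,57,60,62,63,64,55,58,60,62,60,58,61,63,62,60,61,62,60,63,62,60,59,64,63,62,60],57,4⟩)) (.leaf ⟨59,[56,59,56],11,0⟩)))))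 (.node (.node (.node (.node (.node (.leaf ⟨55,[55],0,1⟩) (.leaf ⟨58,[60,58,60,58,60],18,5⟩)) (.leaf ⟨57,[58,60,55,60,55,60,56],20,6⟩)) (.node (.node (.leaf ⟨63,[60,63,60],44,2⟩) (.leaf ⟨56,[60,56,60],16,1⟩)) (.leaf ⟨58,[59,58,59],14,0⟩))) (.node (.node (.node (.leaf ⟨59,[62,59,62],33,3⟩) (.leaf ⟨57,[60,62,59,60,57,60,62,60,57,60,62,60],37,6⟩)) (.leaf ⟨58,[60,58,60,58,60],18,3⟩)) (.node (.node (.leaf ⟨56,[55,56,55],2,2⟩) (.leaf ⟨61,[59,64,63,62,60,62,63,64,61,60,62,63,60,62,57,60,62,63,64,55,58,60,62,60,58,61,63,62,60,61,62,60,63,62,60,59,64,63,62,60,55,62,60,63,62,60],57,10⟩)) (.leaf ⟨61,[55,59,61,59],26,2⟩)))) (.node (.node (.node (.node (.leaf ⟨58,[61,58,61],24,3⟩) (.leaf ⟨61,[60,57,60,61,57,60,57,60,61,60,57,60],28,4⟩)) (.leaf ⟨59,[61,59,61,55],26,4⟩)) (.node (.node (.leaf ⟨62,[58,60,62,60,58,62,60,62,60],36,7⟩)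 (.leaf ⟨60,[62,63,64,61,60,62,63,60,62,57,60,62,63,64,55,58,60,62,60,58,61,63,62,60,61,62,60,63,62,60,59,64,63,62,60,55,62,60,63,62,60,61,59,64,63,62],57,15⟩)) (.leaf ⟨55,[60,55,60,56,57,58,60],20,1⟩))) (.node (.node (.node (.leaf ⟨58,[59,58,59],14,2⟩) (.leaf ⟨61,[57,60,57,60,61,60,57,60,61,60,57,60],28,8⟩)) (.leaf ⟨55,[56,55,56],2,1⟩)) (.node (.node (.leaf ⟨58,[59,64,56,64,55],55,4⟩) (.leaf ⟨61,[62,61,62],34,1⟩)) (.leaf ⟨61,[55,61,55],22,0⟩)))))) (.node (.node (.node (.node (.node (.node (.leaf ⟨62,[62],29,1⟩) (.leaf ⟨60,[57,59,60,57,59],17,3⟩)) (.node (.leaf ⟨62,[59,62,59],33,2⟩) (.leaf ⟨58,[62,58,62],32,1⟩))) (.node (.node (.leaf ⟨62,[64,62,64],54,3⟩) (.leaf ⟨61,[57,61,57],23,0⟩)) (.leaf ⟨55,[59,55,59],9,1⟩))) (.node (.node (.node (.leaf ⟨60,[63,60,63],44,3⟩) (.leaf ⟨61,[57,61,57],23,2⟩)) (.leaf ⟨59,[55,59,55],9,0⟩))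 (.node (.node (.leaf ⟨56,[62,56,62],31,3⟩) (.leaf ⟨64,[61,60,62,63,60,62,57,60,62,63,64,55,58,60,62,60,58,61,63,62,60,61,62,60,63,62,60,59,64,63,62,60,55,62,60,63,62,60,61,59,64,63,62,60,62,63],57,18⟩)) (.leaf ⟨57,[60,62,60,57,60,62,59,60,57,60,62,60],37,2⟩)))) (.node (.node (.node (.node (.leaf ⟨55,[62,55,62],30,3⟩) (.leaf ⟨56,[57,58,60,55,60,55,60],20,5⟩)) (.leaf ⟨59,[63,55,57,58,59,63],46,1⟩)) (.node (.node (.leaf ⟨62,[63,62,63,62,63,58],47,6⟩) (.leaf ⟨63,[64,63,64,63,64],56,3⟩)) (.leaf ⟨59,[60,57,59,60,57],17,2⟩))) (.node (.node (.node (.leaf ⟨58,[64,58,64],51,3⟩) (.leaf ⟨56,[57,56,57],5,1⟩)) (.leaf ⟨55,[56,55,56],2,3⟩)) (.node (.node (.leaf ⟨56,[59,56,59],11,3⟩) (.leaf ⟨58,[61,63,62,60,61,62,60,63,62,60,59,64,63,62,60,55,62,60,63,62,60,61,59,64,63,62,60,62,63,64,61,60,62,63,60,62,57,60,62,63,64,55,58,60,62,60],57,35⟩))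 (.leaf ⟨57,[59,60,57,59,60],17,1⟩))))) (.node (.node (.node (.node (.node (.leaf ⟨58,[58],6,1⟩) (.leaf ⟨62,[58,62,58],32,2⟩)) (.leaf ⟨57,[63,57,63],42,1⟩)) (.node (.node (.leaf ⟨63,[57,63,57],42,2⟩) (.leaf ⟨60,[64,60,64],52,1⟩)) (.leaf ⟨64,[55,64,55],50,2⟩))) (.node (.node (.node (.leaf ⟨57,[59,60,57,59,60],17,4⟩) (.leaf ⟨63,[57,63,57],42,0⟩)) (.leaf ⟨57,[59,57,59],13,3⟩)) (.node (.node (.leaf ⟨56,[58,56,58],10,3⟩) (.leaf ⟨61,[62,60,63,62,60,59,64,63,62,60,55,62,60,63,62,60,61,59,64,63,62,60,62,63,64,61,60,62,63,60,62,57,60,62,63,64,55,58,60,62,60,58,61,63,62,60],57,40⟩)) (.leaf ⟨61,[58,61,58],24,2⟩)))) (.node (.node (.node (.node (.leaf ⟨61,[62,61,62],34,3⟩) (.leaf ⟨60,[61,58,60,58,61,60,61,60,58,60,61],27,7⟩)) (.leaf ⟨57,[58,60,58,55,57,60,55],19,6⟩)) (.node (.node (.leaf ⟨63,[62,63,62,63,58,62],47,0⟩) (.leaf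 ⟨62,[57,60,62,63,64,55,58,60,62,60,58,61,63,62,60,61,62,60,63,62,60,59,64,63,62,60,55,62,60,63,62,60,61,59,64,63,62,60,62,63,64,61,60,62,63,60],57,24⟩)) (.leaf ⟨60,[58,60,58,60,58],18,0⟩))) (.node (.node (.node (.leaf ⟨60,[64,60,64],52,3⟩) (.leaf ⟨55,[56,61,56,61],25,3⟩)) (.leaf ⟨63,[56,63,56],41,2⟩)) (.node (.node (.leaf ⟨59,[58,59,58],14,3⟩) (.leaf ⟨62,[61,62,61],34,0⟩)) (.leaf ⟨63,[62,63,58,62,63,62],47,2⟩))))))) (.node (.node (.node (.node (.node (.node (.node (.leaf ⟨63,[63],39,1⟩) (.leaf ⟨58,[55,58,55],8,2⟩)) (.node (.leaf ⟨59,[57,59,57],13,2⟩) (.leaf ⟨57,[61,57,61],23,1⟩))) (.node (.node (.leaf ⟨61,[64,61,64],53,3⟩) (.leaf ⟨58,[55,58,55],8,0⟩)) (.leaf ⟨59,[58,59,58],14,1⟩))) (.node (.node (.node (.leaf ⟨61,[63,61,63],45,3⟩) (.leaf ⟨61,[56,61,55,56],25,0⟩)) (.leaf ⟨58,[57,58,57],12,0⟩)) (.node (.node (.leaf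 ⟨56,[63,56,63],41,3⟩) (.leaf ⟨61,[60,62,63,60,62,57,60,62,63,64,55,58,60,62,60,58,61,63,62,60,61,62,60,63,62,60,59,64,63,62,60,55,62,60,63,62,60,61,59,64,63,62,60,62,63,64],57,19⟩)) (.leaf ⟨62,[60,62,58,60,62,60,58,62,60],36,5⟩)))) (.node (.node (.node (.node (.leaf ⟨55,[61,55,61],22,3⟩) (.leaf ⟨60,[61,60,62,55,56,59,60,61,60,61,60,62,60,61],38,3⟩)) (.leaf ⟨57,[59,57,59],13,1⟩)) (.node (.node (.leaf ⟨62,[63,58,62,63,62,63],47,3⟩) (.leaf ⟨64,[61,64,61],53,2⟩)) (.leaf ⟨55,[60,56,57,58,60,55,60],20,3⟩))) (.node (.node (.node (.leaf ⟨55,[59,55,59],9,3⟩) (.leaf ⟨64,[58,64,58],51,2⟩)) (.leaf ⟨62,[56,62,56],31,0⟩)) (.node (.node (.leaf ⟨56,[56],1,1⟩) (.leaf ⟨60,[63,62,60,61,59,64,63,62,60,62,63,64,61,60,62,63,60,62,57,60,62,63,64,55,58,60,62,60,58,61,63,62,60,61,62,60,63,62,60,59,64,63,62,60,55,62],57,6⟩)) (.leaf ⟨61,[55,61,55],22,2⟩)))))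 (.node (.node (.node (.node (.node (.leaf ⟨57,[57],3,1⟩) (.leaf ⟨62,[59,60,57,60,62,60,57,60,62,60,57,60],37,8⟩)) (.leaf ⟨63,[55,57,58,59,63,59],46,2⟩)) (.node (.node (.leaf ⟨63,[55,63,55],40,2⟩) (.leaf ⟨64,[62,64,62],54,0⟩)) (.leaf ⟨62,[59,62,59],33,0⟩))) (.node (.node (.node (.leaf ⟨59,[57,59,57],13,0⟩) (.leaf ⟨57,[60,62,60,57,60,62,60,57,60,62,59,60],37,11⟩)) (.leaf ⟨57,[62,55,56,57,59,62],35,1⟩)) (.node (.node (.leaf ⟨56,[57,56,57],5,3⟩) (.leaf ⟨55,[58,60,62,60,58,61,63,62,60,61,62,60,63,62,60,59,64,63,62,60,55,62,60,63,62,60,61,59,64,63,62,60,62,63,64,61,60,62,63,60,62,57,60,62,63,64],57,30⟩)) (.leaf ⟨56,[59,56,59],11,1⟩)))) (.node (.node (.node (.node (.leaf ⟨58,[62,58,62],32,3⟩) (.leaf ⟨61,[60,57,60,61,60,57,60,61,57,60,57,60],28,0⟩)) (.leaf ⟨56,[57,59,62,57,62,55],35,4⟩)) (.node (.node (.leaf ⟨62,[60,62,60,62,58,60,62,60,58],36,3⟩)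 (.leaf ⟨57,[60,62,63,64,55,58,60,62,60,58,61,63,62,60,61,62,60,63,62,60,59,64,63,62,60,55,62,60,63,62,60,61,59,64,63,62,60,62,63,64,61,60,62,63,60,62],57,25⟩)) (.leaf ⟨55,[58,55,58],8,3⟩))) (.node (.node (.node (.leaf ⟨60,[58,60,58,60,58],18,4⟩) (.leaf ⟨61,[56,60,58,61,60,61,60,58,56,60,61,55,60,58,55],48,15⟩)) (.leaf ⟨57,[56,57,56],5,2⟩)) (.node (.node (.leaf ⟨55,[58,55,58],8,1⟩) (.leaf ⟨62,[64,62,64],54,1⟩)) (.leaf ⟨60,[56,60,56],16,0⟩)))))) (.node (.node (.node (.node (.node (.node (.leaf ⟨60,[60],15,1⟩) (.leaf ⟨60,[57,59,60,57,59],17,0⟩)) (.node (.leaf ⟨63,[55,63,55],40,0⟩) (.leaf ⟨64,[61,64,61],53,0⟩))) (.node (.node (.leaf ⟨63,[58,62,63,62,63,62],47,4⟩) (.leaf ⟨63,[60,63,60],44,0⟩)) (.leaf ⟨56,[58,56,58],10,1⟩))) (.node (.node (.node (.leaf ⟨57,[63,57,63],42,3⟩) (.leaf ⟨62,[60,61,60,61,60,62,55,56,59,60,61,60,61,60],38,0⟩))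 (.leaf ⟨62,[55,62,55],30,2⟩)) (.node (.node (.leaf ⟨56,[60,56,60],16,3⟩) (.leaf ⟨61,[63,62,60,61,62,60,63,62,60,59,64,63,62,60,55,62,60,63,62,60,61,59,64,63,62,60,62,63,64,61,60,62,63,60,62,57,60,62,63,64,55,58,60,62,60,58],57,36⟩)) (.leaf ⟨57,[55,57,55],4,2⟩)))) (.node (.node (.node (.node (.leaf ⟨57,[61,57,61],23,3⟩) (.leaf ⟨61,[60,61,58,60,58,61,60,61,60,58,60],27,6⟩)) (.leaf ⟨57,[59,62,57,62,55,56],35,5⟩)) (.node (.node (.leaf ⟨62,[61,62,61],34,2⟩) (.leaf ⟨60,[62,63,64,55,58,60,62,60,58,61,63,62,60,61,62,60,63,62,60,59,64,63,62,60,55,62,60,63,62,60,61,59,64,63,62,60,62,63,64,61,60,62,63,60,62,57],57,26⟩)) (.leaf ⟨58,[60,55,60,55,60,56,57],20,7⟩))) (.node (.node (.node (.leaf ⟨58,[57,58,57],12,2⟩) (.leaf ⟨62,[60,58,62,60,62,60,62,58,60],36,0⟩)) (.leaf ⟨57,[56,57,56],5,0⟩)) (.node (.node (.leaf ⟨62,[56,62,56],31,2⟩)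 (.leaf ⟨59,[64,63,62,60,55,62,60,63,62,60,61,59,64,63,62,60,62,63,64,61,60,62,63,60,62,57,60,62,63,64,55,58,60,62,60,58,61,63,62,60,61,62,60,63,62,60],57,46⟩)) (.leaf ⟨62,[55,56,57,59,62,57],35,2⟩))))) (.node (.node (.node (.node (.node (.leaf ⟨61,[61],21,1⟩) (.leaf ⟨62,[60,57,60,62,60,57,60,62,59,60,57,60],37,0⟩)) (.leaf ⟨57,[58,57,58],12,3⟩)) (.node (.node (.leaf ⟨63,[58,63,58],43,2⟩) (.leaf ⟨64,[63,64,63,64,63],56,4⟩)) (.leaf ⟨63,[58,63,58],43,0⟩))) (.node (.node (.node (.leaf ⟨55,[64,55,64],50,3⟩) (.leaf ⟨64,[55,64,55],50,0⟩)) (.leaf ⟨59,[63,59,63,55,57,58],46,6⟩)) (.node (.node (.leaf ⟨56,[61,56,61,55],25,4⟩) (.leaf ⟨62,[60,63,62,60,59,64,63,62,60,55,62,60,63,62,60,61,59,64,63,62,60,62,63,64,61,60,62,63,60,62,57,60,62,63,64,55,58,60,62,60,58,61,63,62,60,61],57,41⟩)) (.leaf ⟨58,[56,58,56],10,0⟩)))) (.node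 (.node (.node (.node (.leaf ⟨55,[63,55,63],40,3⟩) (.leaf ⟨61,[60,61,60,62,55,56,59,60,61,60,61,60,62,60],38,2⟩)) (.leaf ⟨55,[57,60,55,57,58,60,58],19,2⟩)) (.node (.node (.leaf ⟨59,[64,56,64,55,58],55,5⟩) (.leaf ⟨60,[62,63,60,62,57,60,62,63,64,55,58,60,62,60,58,61,63,62,60,61,62,60,63,62,60,59,64,63,62,60,55,62,60,63,62,60,61,59,64,63,62,60,62,63,64,61],57,20⟩)) (.leaf ⟨59,[56,59,56],11,2⟩))) (.node (.node (.node (.leaf ⟨60,[62,58,60,62,60,58,62,60,62],36,6⟩) (.leaf ⟨61,[59,61,55,59],26,0⟩)) (.leaf ⟨63,[56,63,56],41,0⟩)) (.node (.node (.leaf ⟨59,[55,59,55],9,2⟩) (.leaf ⟨58,[61,58,61],24,1⟩)) (.leaf ⟨55,[57,55,57],4,1⟩))))))))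
noncomputable def tc0 : TCL := ⟨[55,56,57,58,59,60,61,62,63,64], [55,56,57,58,59,60,61,62,63], 378, 28, 0x3fff, 14, 0xff,
  fun a x => look 0xfffffff (nth tc0T 0 a) x, fun x => look 0xfffffff tc0d x, tc0r⟩
noncomputable def tc1T : List ℕ := [0,0,0,0,0,0,0,0,0,0,0,0,0,0,0,0,0,0,0,0,0,0,0,0,0,0,0,0,0,0,0,0,0,0,0,0,0,0,0,0,0,0,0,0,0,0,0,0,0,0,0,0,0,0,0,tc1t55,tc1t56,tc1t57,tc1t58,tc1t59,tc1t60,tc1t61,tc1t62,tc1t63]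
noncomputable def tc1r : Tr Rule := (.node (.node (.node (.node (.node (.node (.node (.node (.leaf ⟨63,[63],39,1⟩) (.leaf ⟨59,[56,59,56],11,0⟩)) (.leaf ⟨62,[58,60,62,60,58,62,60,62,60],36,7⟩)) (.node (.leaf ⟨59,[63,59,63,55,57,58],46,6⟩) (.leaf ⟨57,[59,57,59],13,1⟩))) (.node (.node (.leaf ⟨56,[62,56,62],31,3⟩) (.leaf ⟨61,[56,61,55,56],25,0⟩)) (.node (.leaf ⟨59,[61,55,59,61],26,1⟩) (.leaf ⟨63,[58,63,58],43,2⟩)))) (.node (.node (.node (.leaf ⟨55,[61,55,61],22,3⟩) (.leaf ⟨57,[56,57,56],5,0⟩)) (.node (.leaf ⟨58,[57,58,57],12,0⟩) (.leaf ⟨55,[59,55,59],9,3⟩))) (.node (.node (.leaf ⟨56,[59,56,59],11,3⟩) (.leaf ⟨57,[56,57,56],5,2⟩)) (.node (.leaf ⟨57,[58,57,58],12,1⟩) (.leaf ⟨55,[56,61,56,61],25,3⟩))))) (.node (.node (.node (.node (.leaf ⟨57,[57],3,1⟩) (.leaf ⟨58,[56,58,56],10,2⟩)) (.node (.leaf ⟨59,[61,59,61,55],26,4⟩)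 (.leaf ⟨59,[58,59,58],14,1⟩))) (.node (.node (.leaf ⟨56,[58,56,58],10,3⟩) (.leaf ⟨62,[59,62,59],33,2⟩)) (.node (.leaf ⟨59,[60,57,59,60,57],17,2⟩) (.leaf ⟨61,[57,61,57],23,0⟩)))) (.node (.node (.node (.leaf ⟨58,[62,58,62],32,3⟩) (.leaf ⟨61,[55,61,55],22,2⟩)) (.node (.leaf ⟨57,[59,60,57,59,60],17,4⟩) (.leaf ⟨63,[58,62,63,62,63,62],47,4⟩))) (.node (.node (.leaf ⟨60,[63,60,63],44,3⟩) (.leaf ⟨62,[57,62,55,56,57,59],35,0⟩)) (.node (.leaf ⟨60,[56,60,56],16,2⟩) (.leaf ⟨62,[55,62,55],30,0⟩)))))) (.node (.node (.node (.node (.node (.node (.leaf ⟨60,[60],15,1⟩) (.leaf ⟨60,[57,59,60,57,59],17,0⟩)) (.leaf ⟨62,[58,62,58],32,2⟩)) (.node (.leaf ⟨57,[62,55,56,57,59,62],35,1⟩) (.leaf ⟨55,[56,55,56],2,3⟩))) (.node (.node (.leaf ⟨56,[55,56,55],2,2⟩) (.leaf ⟨62,[55,62,55],30,2⟩)) (.node (.leaf ⟨55,[60,56,57,58,60,55,60],20,3⟩) (.leaf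 ⟨62,[63,58,62,63,62,63],47,3⟩)))) (.node (.node (.node (.leaf ⟨57,[61,57,61],23,3⟩) (.leaf ⟨61,[60,57,60,61,57,60,57,60,61,60,57,60],28,4⟩)) (.node (.leaf ⟨59,[57,59,57],13,0⟩) (.leaf ⟨61,[57,60,57,60,61,60,57,60,61,60,57,60],28,8⟩))) (.node (.node (.leaf ⟨58,[63,58,63],43,3⟩) (.leaf ⟨59,[56,59,56],11,2⟩)) (.node (.leaf ⟨59,[57,59,57],13,2⟩) (.leaf ⟨61,[59,61,55,59],26,0⟩))))) (.node (.node (.node (.node (.leaf ⟨61,[61],21,1⟩) (.leaf ⟨58,[55,58,55],8,2⟩)) (.node (.leaf ⟨55,[57,60,55,57,58,60,58],19,2⟩) (.leaf ⟨58,[55,58,55],8,0⟩))) (.node (.node (.leaf ⟨56,[61,55,56,61],25,1⟩) (.leaf ⟨57,[60,62,60,57,60,62,60,57,60,62,59,60],37,11⟩)) (.node (.leaf ⟨55,[60,55,60,56,57,58,60],20,1⟩) (.leaf ⟨61,[56,60,58,61,60,61,60,58,56,60,61,55,60,58,55],48,15⟩)))) (.node (.node (.node (.leaf ⟨55,[63,55,63],40,3⟩) (.leaf ⟨61,[60,61,60,62,55,56,59,60,61,60,61,60,62,60],38,2⟩))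 (.node (.leaf ⟨57,[59,57,59],13,3⟩) (.leaf ⟨63,[55,63,55],40,2⟩))) (.node (.node (.leaf ⟨60,[62,60,58,62,60,62,60,62,58],36,9⟩) (.leaf ⟨58,[59,58,59],14,2⟩)) (.node (.leaf ⟨62,[61,62,61],34,2⟩) (.leaf ⟨60,[56,60,56],16,0⟩))))))) (.node (.node (.node (.node (.node (.node (.node (.leaf ⟨62,[62],29,1⟩) (.leaf ⟨62,[56,62,56],31,0⟩)) (.leaf ⟨62,[60,62,60,62,58,60,62,60,58],36,3⟩)) (.node (.leaf ⟨59,[62,59,62],33,3⟩) (.leaf ⟨55,[57,55,57],4,1⟩))) (.node (.node (.leaf ⟨56,[60,56,60],16,3⟩) (.leaf ⟨62,[55,56,59,60,61,60,61,60,62,60,61,60,61,60],38,6⟩)) (.node (.leaf ⟨59,[58,59,58],14,3⟩) (.leaf ⟨63,[61,63,61],45,2⟩)))) (.node (.node (.node (.leaf ⟨55,[62,55,62],30,3⟩) (.leaf ⟨61,[60,61,58,60,58,61,60,61,60,58,60],27,6⟩)) (.node (.leaf ⟨59,[55,59,55],9,0⟩) (.leaf ⟨60,[57,59,60,57,59],17,3⟩))) (.node (.node (.leaf ⟨57,[63,57,63],42,3⟩)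 (.leaf ⟨59,[55,59,55],9,2⟩)) (.node (.leaf ⟨55,[57,55,57],4,3⟩) (.leaf ⟨61,[55,59,61,59],26,2⟩))))) (.node (.node (.node (.node (.leaf ⟨58,[58],6,1⟩) (.leaf ⟨58,[57,58,57],12,2⟩)) (.node (.leaf ⟨57,[58,60,58,55,57,60,55],19,6⟩) (.leaf ⟨58,[59,58,59],14,0⟩))) (.node (.node (.leaf ⟨56,[61,56,61,55],25,4⟩) (.leaf ⟨57,[60,62,59,60,57,60,62,60,57,60,62,60],37,6⟩)) (.node (.leaf ⟨58,[60,55,60,55,60,56,57],20,7⟩) (.leaf ⟨63,[57,63,57],42,0⟩)))) (.node (.node (.node (.leaf ⟨61,[62,61,62],34,3⟩) (.leaf ⟨60,[61,58,60,58,61,60,61,60,58,60,61],27,7⟩)) (.node (.leaf ⟨57,[58,57,58],12,3⟩) (.leaf ⟨63,[60,63,60],44,2⟩))) (.node (.node (.leaf ⟨60,[62,58,60,62,60,58,62,60,62],36,6⟩) (.leaf ⟨62,[55,56,57,59,62,57],35,2⟩)) (.node (.leaf ⟨62,[60,57,60,62,59,60,57,60,62,60,57,60],37,4⟩) (.leaf ⟨63,[55,63,55],40,0⟩)))))) (.node (.node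 (.node (.node (.node (.leaf ⟨55,[55],0,1⟩) (.leaf ⟨60,[61,60,62,55,56,59,60,61,60,61,60,62,60,61],38,3⟩)) (.node (.leaf ⟨59,[60,57,59,60,57],17,5⟩) (.leaf ⟨57,[55,57,55],4,0⟩))) (.node (.node (.leaf ⟨56,[57,56,57],5,3⟩) (.leaf ⟨62,[56,62,56],31,2⟩)) (.node (.leaf ⟨57,[58,60,55,60,55,60,56],20,6⟩) (.leaf ⟨62,[63,62,63,62,63,58],47,6⟩)))) (.node (.node (.node (.leaf ⟨58,[61,58,61],24,3⟩) (.leaf ⟨61,[60,57,60,61,60,57,60,61,57,60,57,60],28,0⟩)) (.node (.leaf ⟨58,[60,58,60,58,60],18,3⟩) (.leaf ⟨60,[61,60,62,60,61,60,61,60,62,55,56,59,60,61],38,12⟩))) (.node (.node (.leaf ⟨60,[58,60,58,60,58],18,4⟩) (.leaf ⟨58,[55,57,60,55,57,58,60],19,1⟩)) (.node (.leaf ⟨60,[58,60,58,60,58],18,0⟩) (.leaf ⟨56,[55,56,55],2,0⟩))))) (.node (.node (.node (.node (.leaf ⟨59,[59],7,1⟩) (.leaf ⟨56,[57,58,60,55,60,55,60],20,5⟩)) (.node (.leaf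 ⟨60,[55,60,56,57,58,60,55],20,2⟩) (.leaf ⟨55,[59,55,59],9,1⟩))) (.node (.node (.leaf ⟨56,[56],1,1⟩) (.leaf ⟨57,[55,57,55],4,2⟩)) (.node (.leaf ⟨55,[58,55,58],8,3⟩) (.leaf ⟨61,[57,61,57],23,2⟩)))) (.node (.node (.node (.leaf ⟨56,[63,56,63],41,3⟩) (.leaf ⟨61,[55,56,61,56],25,2⟩)) (.node (.leaf ⟨59,[63,55,57,58,59,63],46,1⟩) (.leaf ⟨63,[57,63,57],42,2⟩))) (.node (.node (.leaf ⟨61,[63,61,63],45,3⟩) (.leaf ⟨57,[59,62,57,62,55,56],35,5⟩)) (.node (.leaf ⟨62,[60,62,58,60,62,60,58,62,60],36,5⟩) (.leaf ⟨63,[60,63,60],44,0⟩))))))))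
noncomputable def tc1 : TCL := ⟨[55,56,57,58,59,60,61,62,63], [55,56,57,58,59,60,61,62], 117, 28, 0xfff, 12, 0xff,
  fun a x => look 0xfffffff (nth tc1T 0 a) x, fun x => look 0xfffffff tc1d x, tc1r⟩
noncomputable def tc2T : List ℕ := [0,0,0,0,0,0,0,0,0,0,0,0,0,0,0,0,0,0,0,0,0,0,0,0,0,0,0,0,0,0,0,0,0,0,0,0,0,0,0,0,0,0,0,0,0,0,0,0,0,0,0,0,0,0,0,tc2t55,tc2t56,tc2t57,tc2t58,tc2t59,tc2t60,tc2t61,tc2t62]
noncomputable def tc2r : Tr Rule := (.node (.node (.node (.node (.node (.node (.node (.leaf ⟨62,[62],29,1⟩) (.leaf ⟨62,[60,61,60,61,60,62,55,56,59,60,61,60,61,60],38,0⟩)) (.leaf ⟨58,[60,58,60,58,60],18,3⟩)) (.node (.leaf ⟨56,[61,56,61,55],25,4⟩) (.leaf ⟨62,[59,60,57,60,62,60,57,60,62,60,57,60],37,8⟩))) (.node (.node (.node (.leaf ⟨57,[61,57,61],23,3⟩) (.leaf ⟨57,[55,57,55],4,2⟩)) (.leaf ⟨60,[56,60,56],16,2⟩)) (.node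 (.leaf ⟨59,[60,57,59,60,57],17,5⟩) (.leaf ⟨58,[56,58,56],10,2⟩)))) (.node (.node (.node (.node (.leaf ⟨58,[58],6,1⟩) (.leaf ⟨62,[59,62,59],33,2⟩)) (.leaf ⟨57,[59,57,59],13,3⟩)) (.node (.leaf ⟨60,[58,60,58,60,58],18,4⟩) (.leaf ⟨61,[60,62,60,61,60,61,60,62,55,56,59,60,61,60],38,13⟩))) (.node (.node (.node (.leaf ⟨56,[60,56,60],16,3⟩) (.leaf ⟨58,[60,55,60,55,60,56,57],20,7⟩)) (.leaf ⟨55,[57,55,57],4,3⟩)) (.node (.leaf ⟨60,[55,60,56,57,58,60,55],20,2⟩) (.leaf ⟨61,[56,61,55,56],25,0⟩))))) (.node (.node (.node (.node (.node (.leaf ⟨55,[55],0,1⟩) (.leaf ⟨62,[56,62,56],31,2⟩)) (.leaf ⟨57,[62,55,56,57,59,62],35,1⟩)) (.node (.leaf ⟨56,[56],1,1⟩) (.leaf ⟨60,[61,60,62,60,61,60,61,60,62,55,56,59,60,61],38,12⟩))) (.node (.node (.node (.leaf ⟨55,[62,55,62],30,3⟩) (.leaf ⟨62,[55,56,57,59,62,57],35,2⟩)) (.leaf ⟨60,[62,60,62,58,60,62,60,58,62],36,4⟩))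 (.node (.leaf ⟨57,[58,60,58,55,57,60,55],19,6⟩) (.leaf ⟨58,[55,58,55],8,2⟩)))) (.node (.node (.node (.node (.leaf ⟨59,[59],7,1⟩) (.leaf ⟨59,[55,59,55],9,2⟩)) (.leaf ⟨57,[58,60,55,60,55,60,56],20,6⟩)) (.node (.leaf ⟨61,[62,61,62],34,3⟩) (.leaf ⟨61,[55,61,55],22,2⟩))) (.node (.node (.node (.leaf ⟨56,[57,56,57],5,3⟩) (.leaf ⟨61,[60,57,60,61,60,57,60,61,57,60,57,60],28,0⟩)) (.leaf ⟨59,[57,59,57],13,2⟩)) (.node (.leaf ⟨59,[55,59,55],9,0⟩) (.leaf ⟨57,[56,57,56],5,0⟩)))))) (.node (.node (.node (.node (.node (.node (.leaf ⟨60,[60],15,1⟩) (.leaf ⟨62,[55,62,55],30,2⟩)) (.leaf ⟨57,[59,60,57,59,60],17,4⟩)) (.node (.leaf ⟨56,[61,55,56,61],25,1⟩) (.leaf ⟨62,[61,62,61],34,2⟩))) (.node (.node (.node (.leaf ⟨58,[61,58,61],24,3⟩) (.leaf ⟨57,[56,57,56],5,2⟩)) (.leaf ⟨60,[62,58,60,62,60,58,62,60,62],36,6⟩)) (.node (.leaf ⟨59,[61,59,61,55],26,4⟩)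 (.leaf ⟨58,[57,58,57],12,2⟩)))) (.node (.node (.node (.node (.leaf ⟨61,[61],21,1⟩) (.leaf ⟨59,[60,57,60,62,60,57,60,62,60,57,60,62],37,9⟩)) (.leaf ⟨55,[60,56,57,58,60,55,60],20,3⟩)) (.node (.leaf ⟨59,[62,59,62],33,3⟩) (.leaf ⟨61,[60,61,60,62,55,56,59,60,61,60,61,60,62,60],38,2⟩))) (.node (.node (.node (.leaf ⟨56,[55,56,55],2,2⟩) (.leaf ⟨61,[57,60,57,60,61,60,57,60,61,60,57,60],28,8⟩)) (.leaf ⟨55,[59,55,59],9,3⟩)) (.node (.leaf ⟨58,[57,58,57],12,0⟩) (.leaf ⟨56,[57,58,60,55,60,55,60],20,5⟩))))) (.node (.node (.node (.node (.node (.leaf ⟨57,[57],3,1⟩) (.leaf ⟨62,[60,62,58,60,62,60,58,62,60],36,5⟩)) (.leaf ⟨57,[58,57,58],12,3⟩)) (.node (.leaf ⟨58,[62,58,62],32,3⟩) (.leaf ⟨61,[60,61,60,62,60,61,60,61,60,62,55,56,59,60],38,11⟩))) (.node (.node (.node (.leaf ⟨56,[62,56,62],31,3⟩) (.leaf ⟨58,[55,57,60,55,57,58,60],19,1⟩))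 (.leaf ⟨55,[60,55,60,56,57,58,60],20,1⟩)) (.node (.leaf ⟨55,[57,60,55,57,58,60,58],19,2⟩) (.leaf ⟨61,[55,56,61,56],25,2⟩)))) (.node (.node (.node (.node (.leaf ⟨55,[61,55,61],22,3⟩) (.leaf ⟨57,[59,60,57,59,60],17,1⟩)) (.leaf ⟨59,[60,57,59,60,57],17,2⟩)) (.node (.leaf ⟨57,[59,62,57,62,55,56],35,5⟩) (.leaf ⟨61,[57,61,57],23,2⟩))) (.node (.node (.leaf ⟨56,[58,56,58],10,3⟩) (.leaf ⟨60,[58,60,58,60,58],18,0⟩)) (.node (.leaf ⟨59,[57,59,57],13,0⟩) (.leaf ⟨60,[61,58,60,58,61,60,61,60,58,60,61],27,7⟩)))))))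
noncomputable def tc2 : TCL := ⟨[55,56,57,58,59,60,61,62], [55,56,57,58,59,60,61], 36, 24, 0x3ff, 10, 0x7f,
  fun a x => look 0xffffff (nth tc2T 0 a) x, fun x => look 0xffffff tc2d x, tc2r⟩
noncomputable def tc3T : List ℕ := [0,0,0,0,0,0,0,0,0,0,0,0,0,0,0,0,0,0,0,0,0,0,0,0,0,0,0,0,0,0,0,0,0,0,0,0,0,0,0,0,0,0,0,0,0,0,0,0,0,0,0,0,0,0,0,tc3t55,tc3t56,tc3t57,tc3t58,tc3t59,tc3t60,tc3t61]
noncomputable def tc3r : Tr Rule := (.node (.node (.node (.node (.node (.node (.leaf ⟨61,[61],21,1⟩) (.leaf ⟨60,[56,60,56],16,2⟩)) (.leaf ⟨56,[57,56,57],5,3⟩)) (.node (.node (.leaf ⟨58,[61,58,61],24,3⟩) (.leaf ⟨61,[57,60,57,60,61,60,57,60,61,60,57,60],28,8⟩)) (.leaf ⟨59,[61,59,61,55],26,4⟩))) (.node (.node (.node (.leaf ⟨58,[58],6,1⟩) (.leaf ⟨57,[60,55,57,58,60,58,55],19,3⟩)) (.leaf ⟨60,[55,60,56,57,58,60,55],20,2⟩)) (.node (.leaf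 ⟨58,[57,58,57],12,0⟩) (.leaf ⟨59,[61,55,59,61],26,1⟩)))) (.node (.node (.node (.node (.leaf ⟨55,[55],0,1⟩) (.leaf ⟨58,[56,58,56],10,2⟩)) (.leaf ⟨56,[61,55,56,61],25,1⟩)) (.node (.leaf ⟨57,[58,60,58,55,57,60,55],19,6⟩) (.leaf ⟨59,[55,59,55],9,2⟩))) (.node (.node (.node (.leaf ⟨55,[61,55,61],22,3⟩) (.leaf ⟨55,[56,55,56],2,3⟩)) (.leaf ⟨55,[60,56,57,58,60,55,60],20,3⟩)) (.node (.leaf ⟨56,[60,56,60],16,3⟩) (.leaf ⟨60,[61,58,60,58,61,60,61,60,58,60,61],27,7⟩))))) (.node (.node (.node (.node (.node (.leaf ⟨60,[60],15,1⟩) (.leaf ⟨58,[55,58,55],8,2⟩)) (.leaf ⟨56,[58,56,58],10,3⟩)) (.node (.leaf ⟨60,[58,60,58,60,58],18,4⟩) (.leaf ⟨59,[60,57,59,60,57],17,5⟩))) (.node (.node (.node (.leaf ⟨59,[59],7,1⟩) (.leaf ⟨59,[57,59,57],13,0⟩)) (.leaf ⟨58,[60,58,60,58,60],18,3⟩)) (.node (.leaf ⟨56,[61,56,61,55],25,4⟩) (.leaf ⟨57,[59,60,57,59,60],17,4⟩))))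 (.node (.node (.node (.node (.leaf ⟨57,[57],3,1⟩) (.leaf ⟨58,[59,58,59],14,2⟩)) (.leaf ⟨56,[56],1,1⟩)) (.node (.leaf ⟨55,[57,60,55,57,58,60,58],19,2⟩) (.leaf ⟨59,[58,59,58],14,3⟩))) (.node (.node (.node (.leaf ⟨57,[61,57,61],23,3⟩) (.leaf ⟨60,[56,60,56],16,0⟩)) (.leaf ⟨57,[58,60,55,60,55,60,56],20,6⟩)) (.node (.leaf ⟨56,[55,56,55],2,2⟩) (.leaf ⟨58,[60,61,60,61,58,60,58,61,60,61,60],27,4⟩))))))
noncomputable def tc3 : TCL := ⟨[55,56,57,58,59,60,61], [55,56,57,58,59,60], 15, 20, 0x1ff, 9, 0x3f,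
  fun a x => look 0xfffff (nth tc3T 0 a) x, fun x => look 0xfffff tc3d x, tc3r⟩
noncomputable def tc4T : List ℕ := [0,0,0,0,0,0,0,0,0,0,0,0,0,0,0,0,0,0,0,0,0,0,0,0,0,0,0,0,0,0,0,0,0,0,0,0,0,0,0,0,0,0,0,0,0,0,0,0,0,0,0,0,0,0,0,tc4t55,tc4t56,tc4t57,tc4t58,tc4t59,tc4t60]
noncomputable def tc4r : Tr Rule := (.node (.node (.node (.node (.node (.leaf ⟨60,[60],15,1⟩) (.leaf ⟨55,[60,56,57,58,60,55,60],20,3⟩)) (.leaf ⟨59,[60,57,59,60,57],17,5⟩)) (.node (.leaf ⟨56,[60,56,60],16,3⟩) (.leaf ⟨55,[57,60,55,57,58,60,58],19,2⟩))) (.node (.node (.node (.leaf ⟨57,[57],3,1⟩) (.leaf ⟨57,[60,55,57,58,60,58,55],19,3⟩)) (.leaf ⟨60,[58,60,58,60,58],18,4⟩)) (.node (.leaf ⟨56,[57,56,57],5,3⟩) (.leaf ⟨59,[55,59,55],9,0⟩)))) (.node (.node (.node (.node (.leaf ⟨55,[55],0,1⟩) (.leaf ⟨58,[60,58,60,58,60],18,3⟩)) (.leaf ⟨59,[59],7,1⟩)) (.node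 (.leaf ⟨56,[55,56,55],2,2⟩) (.leaf ⟨58,[57,58,57],12,0⟩))) (.node (.node (.node (.leaf ⟨58,[58],6,1⟩) (.leaf ⟨59,[60,57,59,60,57],17,2⟩)) (.leaf ⟨57,[58,60,58,55,57,60,55],19,6⟩)) (.node (.leaf ⟨56,[58,56,58],10,3⟩) (.leaf ⟨60,[56,57,58,60,55,60,55],20,4⟩)))))
noncomputable def tc4 : TCL := ⟨[55,56,57,58,59,60], [55,56,57,58,59], 6, 16, 0x7f, 7, 0x1f,
  fun a x => look 0xffff (nth tc4T 0 a) x, fun x => look 0xffff tc4d x, tc4r⟩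
noncomputable def tc5T : List ℕ := [0,0,0,0,0,0,0,0,0,0,0,0,0,0,0,0,0,0,0,0,0,0,0,0,0,0,0,0,0,0,0,0,0,0,0,0,0,0,0,0,0,0,0,0,0,0,0,0,0,0,0,0,0,0,0,tc5t55,tc5t56,tc5t57,tc5t58,tc5t59]
noncomputable def tc5r : Tr Rule := (.node (.node (.node (.node (.leaf ⟨58,[58],6,1⟩) (.leaf ⟨58,[59,58,59],14,2⟩)) (.leaf ⟨56,[58,56,58],10,3⟩)) (.node (.leaf ⟨55,[58,55,58],8,3⟩) (.leaf ⟨57,[58,57,58],12,3⟩))) (.node (.node (.leaf ⟨59,[59],7,1⟩) (.leaf ⟨56,[59,56,59],11,3⟩)) (.node (.leaf ⟨55,[59,55,59],9,3⟩) (.leaf ⟨57,[59,57,59],13,3⟩))))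
noncomputable def tc5 : TCL := ⟨[55,56,57,58,59], [55,56,57], 4, 16, 0x7f, 7, 0xf,
  fun a x => look 0xffff (nth tc5T 0 a) x, fun x => look 0xffff tc5d x, tc5r⟩
noncomputable def tc6T : List ℕ := [0,0,0,0,0,0,0,0,0,0,0,0,0,0,0,0,0,0,0,0,0,0,0,0,0,0,0,0,0,0,0,0,0,0,0,0,0,0,0,0,0,0,0,0,0,0,0,0,0,0,0,0,0,0,0,tc6t55,tc6t56,tc6t57]
noncomputable def tc6r : Tr Rule := (.node (.node (.leaf ⟨57,[57],3,1⟩) (.leaf ⟨56,[57,56,57],5,3⟩)) (.leaf ⟨55,[57,55,57],4,3⟩))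
noncomputable def tc6 : TCL := ⟨[55,56,57], [55,56], 2, 16, 0x3f, 6, 0x7,
  fun a x => look 0xffff (nth tc6T 0 a) x, fun x => look 0xffff tc6d x, tc6r⟩
noncomputable def tc7T : List ℕ := [0,0,0,0,0,0,0,0,0,0,0,0,0,0,0,0,0,0,0,0,0,0,0,0,0,0,0,0,0,0,0,0,0,0,0,0,0,0,0,0,0,0,0,0,0,0,0,0,0,0,0,0,0,0,0,tc7t55,tc7t56]
noncomputable def tc7r : Tr Rule := (.node (.leaf ⟨56,[56],1,1⟩) (.leaf ⟨55,[56,55,56],2,3⟩))
noncomputable def tc7 : TCL := ⟨[55,56], [55], 2, 16, 0x3f, 6, 0x7,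
  fun a x => look 0xffff (nth tc7T 0 a) x, fun x => look 0xffff tc7d x, tc7r⟩
noncomputable def tc8T : List ℕ := [0,0,0,0,0,0,0,0,0,0,0,0,0,0,0,0,0,0,0,0,0,0,0,0,0,0,0,0,0,0,0,0,0,0,0,0,0,0,0,0,0,0,0,0,0,0,0,0,0,0,0,0,0,0,0,tc8t55]
noncomputable def tc8r : Tr Rule := (.leaf ⟨55,[55],0,1⟩)
noncomputable def tc8 : TCL := ⟨[55], [], 2, 16, 0x3f, 6, 0x3,
  fun a x => look 0xffff (nth tc8T 0 a) x, fun x => look 0xffff tc8d x, tc8r⟩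
noncomputable def tc : List TCL := [tc0, tc1, tc2, tc3, tc4, tc5, tc6, tc7, tc8]
noncomputable def inW : List (List ℕ) := [[59,63,64,58,60,62,63,60,62,61,60,62,63,64,58,60,62,63,60,62,61,55,60,62,63,62,55,60,62,60,61,60,61],
  [62,63,64,61,60,62,63,60,62,57,60,62,63,64,58,60,62,63,60,62,61,57,60,62,63,60,62,61,58,60,62,61,60,61,57,60,59,58,56],
  [61,60,62,63,60,62,61,55,60,62,63,64,62,63,57,60,62,55,60,62,63,58,60,62,55,60,62,61,55,60,59,57],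
  [60,62,63,60,62,55,60,62,63,64,63,60,62,61,60,62,63,57,60,62,55,60,62,57,60,61,57,60,58,57,56,55]]
noncomputable def tcS : List ℕ := [55,56,57,58,59,60,61,62,63,64]

end Cfsg.Agent.CG.O73
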